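import Groth.Agent.SGA4h.K679.GoodBase
import Groth.Agent.Sga5.H846.DvrOver

/-!
# Good morphisms of traits lift to good morphisms of hulls
-/

set_option autoImplicit false
set_option linter.style.haveILetI false

universe u

noncomputable section

namespace K679.GoodMap

open Groth.Agent.Sga4h.NcTD K3.TraitMap K679.Ultra K679.GoodAlg IsLocalRing Polynomial
open CategoryTheory CategoryTheory.Limits

section lift

variable {A S Q : Type u} [CommRing A] [CommRing S] [CommRing Q] [HenselianLocalRing Q] (a : A →+* S)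

theorem lift_exists (hS : letI := a.toAlgebra; EtPBC.IsIndEtale A S) (f : A →+* Q)
    (w : S →+* ResidueField Q) (hw : w.comp a = (residue Q).comp f) :
    ∃ g : S →+* Q, g.comp a = f ∧ (residue Q).comp g = w := by
  let i1 : Algebra A S := a.toAlgebra
  let i2 : Algebra A Q := f.toAlgebra
  let i3 : Algebra A (ResidueField Q) := ((residue Q).comp f).toAlgebra
  let v : Q →ₐ[A] ResidueField Q := { residue Q with commutes' := fun _ => rfl }
  let w' : S →ₐ[A] ResidueField Q := { w with commutes' := fun r => DFunLike.congr_fun hw r }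
  obtain ⟨g, hg, -⟩ := K63.IndEtaleHens.existsUnique_lift hS v residue_surjective
    (ker_residue) w'
  refine ⟨g.toRingHom, g.comp_algebraMap, ?_⟩
  ext s
  exact DFunLike.congr_fun hg s

theorem lift_unique (hS : letI := a.toAlgebra; EtPBC.IsIndEtale A S) (g₁ g₂ : S →+* Q)
    (h : g₁.comp a = g₂.comp a) (hr : (residue Q).comp g₁ = (residue Q).comp g₂) : g₁ = g₂ := by
  let i1 : Algebra A S := a.toAlgebra
  let i2 : Algebra A Q := (g₁.comp a).toAlgebra
  let i3 : Algebra A (ResidueField Q) := ((residue Q).comp (g₁.comp a)).toAlgebra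
  let v : Q →ₐ[A] ResidueField Q := { residue Q with commutes' := fun _ => rfl }
  let w' : S →ₐ[A] ResidueField Q := { (residue Q).comp g₁ with commutes' := fun r => rfl }
  let g₁' : S →ₐ[A] Q := { g₁ with commutes' := fun r => rfl }
  let g₂' : S →ₐ[A] Q := { g₂ with commutes' := fun r => (DFunLike.congr_fun h r).symm }
  obtain ⟨g, -, hg⟩ := K63.IndEtaleHens.existsUnique_lift hS v residue_surjective
    (ker_residue) w'
  have h1 : g₁' = g := hg g₁' rfl
  have h2 : g₂' = g := hg g₂' (by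
    ext s
    exact (DFunLike.congr_fun hr s).symm)
  ext s
  have h3 : g₁' s = g₂' s := by rw [h1, h2]
  exact h3

theorem extension_exists {Ω : Type u} [IsLocalRing S] [Field Ω] [IsSepClosed Ω]
    (h : letI := a.toAlgebra; EtPBC.IsIndEtale A S) (f : A →+* Ω)
    (hf : RingHom.ker f = (maximalIdeal S).comap a) :
    ∃ w : S →+* Ω, w.comp a = f ∧ RingHom.ker w = maximalIdeal S := by
  let i1 : Algebra A S := a.toAlgebra
  exact exists_extension h f hf

end lift

variable {n : ℕ}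

/-- The integral closure of `R` in the perfect closure of `L`. -/
abbrev BB (T : TD.{u} n) := integralClosure T.R (PC T.L)

theorem hBB (T : TD.{u} n) : EtCoh.IsStrictlyHenselianLocalRing (BB T) :=
  Groth.Agent.Sga5.H846.DvrOver.isStrictlyHenselianLocalRing T.hR

theorem algebraMap_PC (T : TD.{u} n) :
    algebraMap T.R (PC T.L) = (algebraMap T.L (PC T.L)).comp (algebraMap T.R T.L) := rfl

/-- The inclusion. -/
abbrev incl (T : TD.{u} n) : BB T →+* PC T.L := algebraMap (BB T) (PC T.L)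

theorem incl_injective (T : TD.{u} n) : Function.Injective (incl T) := Subtype.val_injective

theorem algebraMap_BB_injective (T : TD.{u} n) : Function.Injective (algebraMap T.R (BB T)) := by
  intro x y h
  have h1 : algebraMap T.L (PC T.L) (algebraMap T.R T.L x) = algebraMap T.L (PC T.L) (algebraMap T.R T.L y) :=
    congrArg Subtype.val h
  exact algebraMap_injective T ((algebraMap T.L (PC T.L)).injective h1)

instance isLocalHom_BB (T : TD.{u} n) : IsLocalHom (algebraMap T.R (BB T)) :=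
  (algebraMap_isIntegral_iff.mpr (inferInstance : Algebra.IsIntegral T.R (BB T))).isLocalHom
    (algebraMap_BB_injective T)

section hull

variable {T T' : TD.{u} n} (φ : TMap T T') (H : Hull T) (H' : Hull T')

theorem hull_w : H.lam.comp (algebraMap T.R T.L) = (algebraMap H.T'.R H.T'.L).comp (H.ρ.comp C) := by
  have := congrArg CommRingCat.Hom.hom H.h3.w
  exact this

theorem hull_w_apply (r : T.R) :
    H.lam (algebraMap T.R T.L r) = algebraMap H.T'.R H.T'.L (H.ρ (C r)) :=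
  DFunLike.congr_fun (hull_w H) r

theorem comap_hull [IsLocalRing (BB H.T')] :
    (maximalIdeal (BB H.T')).comap ((algebraMap H.T'.R (BB H.T')).comp H.ρ) = (maximalIdeal T.R).map C := by
  have h1 : IsLocalHom (algebraMap H.T'.R (BB H.T')) := inferInstance
  have h2 := ((local_hom_TFAE (algebraMap H.T'.R (BB H.T'))).out 0 4).mp h1
  rw [← Ideal.comap_comap, h2]
  exact H.h5

/-- The map `R[X] → R₁ → B₁`. -/
abbrev al : T.R[X] →+* BB H.T' := (algebraMap H.T'.R (BB H.T')).comp H.ρ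

theorem exists_f₀ {I : Type u} (𝒰 : Ultrafilter I) (Θ : T'.L →+* UP 𝒰 (PC T.L))
    (σ : PC T.L →+* PC H.T'.L)
    (hσ : ∀ x, σ (algebraMap T.L (PC T.L) x) = algebraMap H.T'.L (PC H.T'.L) (H.lam x))
    (hΘ : ∀ r : T'.R, ∃ f : I → PC T.L, Θ (algebraMap T'.R T'.L r) = mk 𝒰 f ∧
      ∀ i, ((algebraMap T.L (PC T.L)).comp (algebraMap T.R T.L)).IsIntegralElem (f i)) :
    ∃ f₀ : T'.R →+* UP 𝒰 (BB H.T'),
      (map 𝒰 (incl H.T')).comp f₀ = ((map 𝒰 σ).comp Θ).comp (algebraMap T'.R T'.L) ∧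
      ∀ r, ∃ b : I → BB H.T', f₀ r = mk 𝒰 b ∧ ∀ i, ((al H).comp C).IsIntegralElem (b i) := by
  have hcomp : σ.comp ((algebraMap T.L (PC T.L)).comp (algebraMap T.R T.L)) =
      (incl H.T').comp ((al H).comp C) := by
    ext r
    change ((σ (algebraMap T.L (PC T.L) (algebraMap T.R T.L r)) : PC H.T'.L) : AlgebraicClosure H.T'.L) = _
    rw [hσ, hull_w_apply]
    rfl
  have key : ∀ r : T'.R, ∃ b : I → BB H.T',
      map 𝒰 (incl H.T') (mk 𝒰 b) = map 𝒰 σ (Θ (algebraMap T'.R T'.L r)) ∧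
      ∀ i, ((al H).comp C).IsIntegralElem (b i) := by
    intro r
    obtain ⟨f, hf, hfi⟩ := hΘ r
    have h1 : ∀ i, ∃ p : T.R[X], p.Monic ∧
        p.eval₂ ((incl H.T').comp ((al H).comp C)) (σ (f i)) = 0 := by
      intro i
      obtain ⟨p, hp, hp0⟩ := hfi i
      refine ⟨p, hp, ?_⟩
      rw [← hcomp, ← hom_eval₂, hp0, map_zero]
    have h2 : ∀ i, IsIntegral H.T'.R (σ (f i)) := by
      intro i
      obtain ⟨p, hp, hp0⟩ := h1 i
      refine ⟨p.map (H.ρ.comp C), hp.map _, ?_⟩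
      rw [eval₂_map]
      exact hp0
    refine ⟨fun i => ⟨σ (f i), h2 i⟩, ?_, ?_⟩
    · rw [hf]
      rfl
    · intro i
      obtain ⟨p, hp, hp0⟩ := h1 i
      refine ⟨p, hp, ?_⟩
      apply incl_injective
      rw [hom_eval₂, map_zero]
      exact hp0
  obtain ⟨f₀, hf₀⟩ := exists_factor (map 𝒰 (incl H.T')) (map_injective 𝒰 _ (incl_injective _))
    (((map 𝒰 σ).comp Θ).comp (algebraMap T'.R T'.L)) (fun r => by
      obtain ⟨b, hb, -⟩ := key r
      exact ⟨mk 𝒰 b, hb⟩)
  refine ⟨f₀, hf₀, fun r => ?_⟩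
  obtain ⟨b, hb, hbi⟩ := key r
  refine ⟨b, ?_, hbi⟩
  apply map_injective 𝒰 _ (incl_injective _)
  rw [hb]
  exact DFunLike.congr_fun hf₀ r

/-- The map `R'[X] → Q`. -/
abbrev ff {I : Type u} (𝒰 : Ultrafilter I) (f₀ : T'.R →+* UP 𝒰 (BB H.T')) : T'.R[X] →+* UP 𝒰 (BB H.T') :=
  eval₂RingHom f₀ (const 𝒰 (al H X))

theorem comap_f [IsLocalRing (BB H.T')] {I : Type u} (𝒰 : Ultrafilter I)
    (f₀ : T'.R →+* UP 𝒰 (BB H.T'))
    (hf₀ : ∀ r, ∃ b : I → BB H.T', f₀ r = mk 𝒰 b ∧ ∀ i, ((al H).comp C).IsIntegralElem (b i))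
    (hm : (maximalIdeal (UP 𝒰 (BB H.T'))).comap f₀ = maximalIdeal T'.R) :
    (maximalIdeal (UP 𝒰 (BB H.T'))).comap (ff H 𝒰 f₀) = (maximalIdeal T'.R).map C := by
  apply le_antisymm
  · intro g hg
    rw [Ideal.mem_map_C_iff]
    by_contra hne
    push Not at hne
    obtain ⟨k₀, hk₀⟩ := hne
    choose b hb hbi using hf₀
    let G : (I → BB H.T')[X] := ∑ k ∈ g.support, C (b (g.coeff k)) * X ^ k
    have hGc : ∀ k, G.coeff k = if k ∈ g.support then b (g.coeff k) else 0 := by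
      intro k
      simp only [G, finsetSum_coeff, coeff_C_mul, coeff_X_pow, mul_ite, mul_one, mul_zero,
        Finset.sum_ite_eq]
    have hG : ff H 𝒰 f₀ g = mk 𝒰 (G.eval (fun _ => al H X)) := by
      simp only [G, eval_finsetSum, eval_mul, eval_C, eval_pow, eval_X, map_sum, map_mul, map_pow, ← hb]
      change eval₂ f₀ _ g = _
      rw [eval₂_eq_sum, Polynomial.sum_def]
      rfl
    have hg' : mk 𝒰 (G.eval (fun _ => al H X)) ∈ maximalIdeal (UP 𝒰 (BB H.T')) := by
      rw [← hG]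
      exact hg
    rw [mk_mem_maximalIdeal_iff] at hg'
    have hk : k₀ ∈ g.support := by
      rw [mem_support_iff]
      intro h
      rw [h] at hk₀
      exact hk₀ (Ideal.zero_mem _)
    have hu : IsUnit (f₀ (g.coeff k₀)) := by
      by_contra hu
      have : g.coeff k₀ ∈ (maximalIdeal (UP 𝒰 (BB H.T'))).comap f₀ := hu
      rw [hm] at this
      exact hk₀ this
    rw [hb, isUnit_mk_iff] at hu
    obtain ⟨i, hi1, hi2⟩ := (hg'.and hu).exists
    rw [eval_apply] at hi1
    apply (mem_maximalIdeal _).mp hi1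
    refine isUnit_eval (al H) (comap_hull H) _ ?_ k₀ ?_
    · intro k
      rw [coeff_map, hGc]
      split_ifs
      · exact hbi _ i
      · exact RingHom.isIntegralElem_zero _
    · rw [coeff_map, hGc, if_pos hk]
      exact hi2
  · rw [Ideal.map_le_iff_le_comap, Ideal.comap_comap]
    have : (ff H 𝒰 f₀).comp C = f₀ := by
      ext r
      simp
    rw [this, hm]

theorem pushout_desc {A B D E X : Type u} [CommRing A] [CommRing B] [CommRing D] [CommRing E] [CommRing X]
    {a : A →+* B} {b : A →+* D} {c : B →+* E} {d : D →+* E}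
    (h : IsPushout (CommRingCat.ofHom a) (CommRingCat.ofHom b) (CommRingCat.ofHom c) (CommRingCat.ofHom d))
    (u : B →+* X) (v : D →+* X) (huv : u.comp a = v.comp b) :
    ∃ w : E →+* X, w.comp c = u ∧ w.comp d = v := by
  let w := h.desc (CommRingCat.ofHom u) (CommRingCat.ofHom v) (by
    ext x
    exact DFunLike.congr_fun huv x)
  refine ⟨w.hom, ?_, ?_⟩
  · exact congrArg CommRingCat.Hom.hom (h.inl_desc _ _ _)
  · exact congrArg CommRingCat.Hom.hom (h.inr_desc _ _ _)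

theorem pushout_ext {A B D E X : Type u} [CommRing A] [CommRing B] [CommRing D] [CommRing E] [CommRing X]
    {a : A →+* B} {b : A →+* D} {c : B →+* E} {d : D →+* E}
    (h : IsPushout (CommRingCat.ofHom a) (CommRingCat.ofHom b) (CommRingCat.ofHom c) (CommRingCat.ofHom d))
    (w₁ w₂ : E →+* X) (h1 : w₁.comp c = w₂.comp c) (h2 : w₁.comp d = w₂.comp d) : w₁ = w₂ := by
  have : CommRingCat.ofHom w₁ = CommRingCat.ofHom w₂ := by
    apply h.hom_ext
    · ext x
      exact DFunLike.congr_fun h1 x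
    · ext x
      exact DFunLike.congr_fun h2 x
  exact congrArg CommRingCat.Hom.hom this

theorem good_hull (h : Good φ) : ∃ M : HullMap φ H H', Good M.φ' := by
  obtain ⟨I, 𝒰, Θ, hΘ1, hΘ2⟩ := h
  obtain ⟨σ, hσ⟩ := exists_pcMap H.lam
  obtain ⟨f₀, hf₀, hf₀i⟩ := exists_f₀ H 𝒰 Θ σ hσ hΘ2
  obtain ⟨iB, sB⟩ := hBB H.T'
  obtain ⟨iR', sR'⟩ := H'.T'.hR
  obtain ⟨π, hπ⟩ := IsDiscreteValuationRing.exists_irreducible T.R
  let Q := UP 𝒰 (BB H.T')
  let diag : H.T'.R →+* Q := (const 𝒰).comp (algebraMap H.T'.R (BB H.T'))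
  have hdiagi : Function.Injective diag := (const_injective 𝒰).comp (algebraMap_BB_injective H.T')
  have hdiagl : IsLocalHom diag := by
    refine ⟨fun r hr => ?_⟩
    obtain ⟨i, hi⟩ := ((isUnit_mk_iff 𝒰 _).mp hr).exists
    exact isUnit_of_map_unit (algebraMap H.T'.R (BB H.T')) r hi
  have hstar0 : ∀ r : T.R, f₀ (φ.ρ r) = diag (H.ρ (C r)) := by
    intro r
    apply map_injective 𝒰 _ (incl_injective _)
    have h1 := DFunLike.congr_fun hf₀ (φ.ρ r)
    change map 𝒰 (incl H.T') (f₀ (φ.ρ r)) = map 𝒰 σ (Θ (algebraMap T'.R T'.L (φ.ρ r))) at h1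
    rw [h1, ← lam_apply, hΘ1, map_const, hσ, hull_w_apply]
    rfl
  have hm : (maximalIdeal Q).comap f₀ = maximalIdeal T'.R := by
    have h1 : diag (H.ρ (C π)) ∈ maximalIdeal Q := by
      have h2 : (C π : T.R[X]) ∈ (maximalIdeal H.T'.R).comap H.ρ := by
        rw [H.h5]
        exact Ideal.mem_map_of_mem _ ((mem_maximalIdeal _).mpr hπ.not_isUnit)
      have h3 : H.ρ (C π) ∈ maximalIdeal H.T'.R := h2
      intro hu
      exact (mem_maximalIdeal _).mp h3 (isUnit_of_map_unit diag _ hu)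
    have hp : ((maximalIdeal Q).comap f₀).IsPrime := inferInstance
    refine IsLocalRing.eq_maximalIdeal (Ring.DimensionLEOne.maximalOfPrime ?_ hp)
    intro h0
    have h3 : φ.ρ π ∈ (maximalIdeal Q).comap f₀ := by
      rw [Ideal.mem_comap, hstar0]
      exact h1
    rw [h0, Ideal.mem_bot] at h3
    exact hπ.ne_zero (rho_injective φ (h3.trans (map_zero _).symm))
  have hcf := comap_f H 𝒰 f₀ hf₀i hm
  have hstar : (ff H 𝒰 f₀).comp (mapRingHom φ.ρ) = diag.comp H.ρ := by
    apply Polynomial.ringHom_ext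
    · intro r
      rw [RingHom.comp_apply, coe_mapRingHom, map_C, coe_eval₂RingHom, eval₂_C]
      exact hstar0 r
    · rw [RingHom.comp_apply, coe_mapRingHom, map_X, coe_eval₂RingHom, eval₂_X]
      rfl
  obtain ⟨w', hw'1, hw'2⟩ := extension_exists H'.ρ H'.h4 ((residue Q).comp (ff H 𝒰 f₀)) (by
    rw [← RingHom.comap_ker, ker_residue, hcf, H'.h5])
  obtain ⟨g', hg'1, hg'2⟩ := lift_exists H'.ρ H'.h4 (ff H 𝒰 f₀) w' hw'1
  have hg'loc : IsLocalHom g' := by
    refine ((local_hom_TFAE g').out 0 4).mpr ?_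
    rw [← hw'2, ← hg'2, ← RingHom.comap_ker, ker_residue]
  let gb : ResidueField H'.T'.R →+* ResidueField Q := ResidueField.map g'
  have hgb : gb.comp (residue H'.T'.R) = (residue Q).comp g' := rfl
  let i1 : Algebra (ResidueField H'.T'.R) (ResidueField Q) := gb.toAlgebra
  have hcompat : ((residue Q).comp diag).comp H.ρ =
      gb.comp ((residue H'.T'.R).comp (H'.ρ.comp (mapRingHom φ.ρ))) := by
    rw [RingHom.comp_assoc, ← hstar, ← hg'1, RingHom.comp_assoc, ← RingHom.comp_assoc, ← hgb]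
    rfl
  have hrange : ∀ s : H.T'.R, ∃ y, gb y = (residue Q).comp diag s := by
    intro s
    refine mem_range_of_isSeparable (k := ResidueField H'.T'.R) _ ?_
    let i2 : Algebra T.R[X] H.T'.R := H.ρ.toAlgebra
    exact isSeparable_of_isIndEtale H.h4 ((residue _).comp (H'.ρ.comp (mapRingHom φ.ρ)))
      ((residue Q).comp diag) hcompat s
  obtain ⟨w₁, hw₁⟩ := exists_factor gb gb.injective ((residue Q).comp diag) hrange
  obtain ⟨ρ₁, hρ₁1, hρ₁2⟩ := lift_exists H.ρ H.h4 (H'.ρ.comp (mapRingHom φ.ρ)) w₁ (by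
    refine RingHom.ext fun x => gb.injective ?_
    have := DFunLike.congr_fun hcompat x
    rw [← hw₁] at this
    exact this)
  have hgd : g'.comp ρ₁ = diag := by
    refine lift_unique H.ρ H.h4 _ _ ?_ ?_
    · rw [RingHom.comp_assoc, hρ₁1, ← RingHom.comp_assoc, hg'1]
      exact hstar
    · rw [← RingHom.comp_assoc, ← hgb, RingHom.comp_assoc, hρ₁2, hw₁]
  -- the extension of `Θ`
  obtain ⟨Θ₁, hΘ₁1, hΘ₁2⟩ := pushout_desc H'.h3 ((map 𝒰 σ).comp Θ) ((map 𝒰 (incl H.T')).comp g') (by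
    rw [← hf₀]
    refine RingHom.ext fun r => ?_
    change map 𝒰 (incl H.T') (f₀ r) = map 𝒰 (incl H.T') (g' (H'.ρ (C r)))
    have h1 : g' (H'.ρ (C r)) = f₀ r := by
      rw [← RingHom.comp_apply g' H'.ρ, hg'1, coe_eval₂RingHom, eval₂_C]
    rw [h1])
  obtain ⟨lam₁, hlam₁1, hlam₁2⟩ := pushout_desc H.h3 (H'.lam.comp φ.lam)
    ((algebraMap H'.T'.R H'.T'.L).comp ρ₁) (by
    refine RingHom.ext fun r => ?_
    change H'.lam (φ.lam (algebraMap T.R T.L r)) = algebraMap H'.T'.R H'.T'.L (ρ₁ (H.ρ (C r)))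
    rw [lam_apply, hull_w_apply]
    have h1 : ρ₁ (H.ρ (C r)) = H'.ρ (C (φ.ρ r)) := by
      rw [← RingHom.comp_apply ρ₁ H.ρ, hρ₁1, RingHom.comp_apply, coe_mapRingHom, map_C]
    rw [h1])
  have hρ₁i : Function.Injective ρ₁ := by
    have h1 : Function.Injective (g'.comp ρ₁) := by
      rw [hgd]
      exact hdiagi
    exact Function.Injective.of_comp h1
  have hκi : Function.Injective ((algebraMap H'.T'.R H'.T'.K).comp ρ₁) :=
    (IsFractionRing.injective H'.T'.R H'.T'.K).comp hρ₁i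
  have hρ₁l : IsLocalHom ρ₁ := by
    have : IsLocalHom (g'.comp ρ₁) := by
      rw [hgd]
      exact hdiagl
    exact isLocalHom_of_comp ρ₁ g'
  let κ₁ : H.T'.K →+* H'.T'.K := IsFractionRing.lift hκi
  have hκ₁ : κ₁.comp (algebraMap H.T'.R H.T'.K) = (algebraMap H'.T'.R H'.T'.K).comp ρ₁ :=
    RingHom.ext fun r => IsFractionRing.lift_algebraMap hκi r
  have hlamκ : lam₁.comp (algebraMap H.T'.K H.T'.L) = (algebraMap H'.T'.K H'.T'.L).comp κ₁ := by
    apply IsLocalization.ringHom_ext (nonZeroDivisors H.T'.R)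
    refine RingHom.ext fun r => ?_
    change lam₁ (algebraMap H.T'.K H.T'.L (algebraMap H.T'.R H.T'.K r)) =
      algebraMap H'.T'.K H'.T'.L (κ₁ (algebraMap H.T'.R H.T'.K r))
    have h1 : κ₁ (algebraMap H.T'.R H.T'.K r) = algebraMap H'.T'.R H'.T'.K (ρ₁ r) :=
      DFunLike.congr_fun hκ₁ r
    have h2 : lam₁ (algebraMap H.T'.R H.T'.L r) = algebraMap H'.T'.R H'.T'.L (ρ₁ r) :=
      DFunLike.congr_fun hlam₁2 r
    rw [h1, ← IsScalarTower.algebraMap_apply, ← IsScalarTower.algebraMap_apply, h2]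
  let φ' : TMap H.T' H'.T' := ⟨ρ₁, κ₁, lam₁, hρ₁l, hκ₁, hlamκ⟩
  refine ⟨⟨φ', hρ₁1, hlam₁1⟩, I, 𝒰, Θ₁, ?_, ?_⟩
  · intro x
    have h1 : Θ₁.comp lam₁ = (const 𝒰).comp (algebraMap H.T'.L (PC H.T'.L)) := by
      apply pushout_ext H.h3
      · rw [RingHom.comp_assoc, hlam₁1, ← RingHom.comp_assoc, hΘ₁1]
        refine RingHom.ext fun y => ?_
        change map 𝒰 σ (Θ (φ.lam y)) = const 𝒰 (algebraMap H.T'.L (PC H.T'.L) (H.lam y))
        rw [hΘ1, map_const, hσ]
      · rw [RingHom.comp_assoc, hlam₁2, ← RingHom.comp_assoc, hΘ₁2, RingHom.comp_assoc, hgd]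
        rfl
    exact DFunLike.congr_fun h1 x
  · intro r
    obtain ⟨b, hb⟩ := mk_surjective 𝒰 (g' r)
    refine ⟨fun i => incl H.T' (b i), ?_, fun i => (b i).2⟩
    have h1 : Θ₁ (algebraMap H'.T'.R H'.T'.L r) = map 𝒰 (incl H.T') (g' r) :=
      DFunLike.congr_fun hΘ₁2 r
    rw [h1, ← hb]
    rfl

end hull

/-- The result. -/
theorem exists_good (n : ℕ) : ∃ Good : ∀ {T T' : TD.{u} n}, TMap T T' → Prop,
    (∀ {T T' : TD.{u} n} (φ : TMap T T'), IsSepClosed T.L → Good φ) ∧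
    (∀ {T T' : TD.{u} n} (φ : TMap T T'), Good φ → SepIn φ) ∧
    (∀ {T T' : TD.{u} n} (φ : TMap T T') (H : Hull T) (H' : Hull T'), Good φ →
      ∃ M : HullMap φ H H', Good M.φ') :=
  ⟨fun φ => Good φ, fun φ h => good_of_isSepClosed φ h, fun φ h => sepIn_of_good φ h,
    fun φ H H' h => good_hull φ H H' h⟩

end K679.GoodMap
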