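import Groth.Agent.CAlg.K63.IndEtaleHens
import Groth.Agent.Etalg.IndEt
import Groth.Agent.Proet.IndEtale
import Mathlib.FieldTheory.PurelyInseparable.PerfectClosure

/-!
# Commutative algebra for the change of trait

* `exists_factor`: factoring a ring map through an injection.
* `exists_pcMap`: functoriality of perfect closures.
* `isUnit_eval`: a polynomial with coefficients integral over `R` and a unit coefficient is invertible at
  a point which is generic over `R`.
* `isSeparable_of_isIndEtale`, `exists_extension`: residue fields of ind-étale algebras.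
-/

set_option autoImplicit false

universe u v

namespace K679.GoodAlg

open IsLocalRing Polynomial
open scoped TensorProduct

theorem exists_factor {A Q G : Type*} [CommRing A] [CommRing Q] [CommRing G] (j : Q →+* G)
    (hj : Function.Injective j) (h : A →+* G) (hr : ∀ a, ∃ q, j q = h a) :
    ∃ f : A →+* Q, j.comp f = h := by
  choose g hg using hr
  refine ⟨{ toFun := g, map_one' := ?_, map_mul' := ?_, map_zero' := ?_, map_add' := ?_ }, ?_⟩
  · apply hj
    rw [hg, map_one, map_one]
  · intro x y
    apply hj
    rw [hg, map_mul, map_mul, hg, hg]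
  · apply hj
    rw [hg, map_zero, map_zero]
  · intro x y
    apply hj
    rw [hg, map_add, map_add, hg, hg]
  · ext a
    exact hg a

/-- The perfect closure. -/
abbrev PC (L : Type u) [Field L] : Type u := perfectClosure L (AlgebraicClosure L)

theorem mem_perfectClosure_of_isSepClosed (L : Type u) [Field L] [IsSepClosed L] (x : AlgebraicClosure L) :
    x ∈ perfectClosure L (AlgebraicClosure L) := by
  have h : IsPurelyInseparable L (AlgebraicClosure L) := inferInstance
  rw [isPurelyInseparable_iff_perfectClosure_eq_top] at h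
  rw [h]
  exact IntermediateField.mem_top

theorem exists_pcMap {L L₁ : Type u} [Field L] [Field L₁] (g : L →+* L₁) :
    ∃ σ : PC L →+* PC L₁, ∀ x, σ (algebraMap L (PC L) x) = algebraMap L₁ (PC L₁) (g x) := by
  let i1 : Algebra L (AlgebraicClosure L₁) := ((algebraMap L₁ (AlgebraicClosure L₁)).comp g).toAlgebra
  let τ : AlgebraicClosure L →ₐ[L] AlgebraicClosure L₁ := IsAlgClosed.lift
  have hτ : ∀ x : L, τ (algebraMap L _ x) = algebraMap L₁ _ (g x) := fun x => τ.commutes x
  have hmem : ∀ x : PC L, τ x ∈ perfectClosure L₁ (AlgebraicClosure L₁) := by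
    intro x
    obtain ⟨n, y, hy⟩ := (mem_perfectClosure_iff).mp x.2
    have hp : ExpChar L₁ (ringExpChar L) := expChar_of_injective_ringHom g.injective _
    rw [mem_perfectClosure_iff_pow_mem (ringExpChar L)]
    refine ⟨n, g y, ?_⟩
    rw [← map_pow, ← hy, hτ]
  refine ⟨(τ.toRingHom.comp (algebraMap (PC L) (AlgebraicClosure L))).codRestrict
    (perfectClosure L₁ (AlgebraicClosure L₁)) hmem, fun x => ?_⟩
  apply Subtype.ext
  exact hτ x

/-- A polynomial with coefficients integral over `R` and a unit coefficient is invertible at a point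
which is generic over `R`. -/
theorem isUnit_eval {R B : Type u} [CommRing R] [IsLocalRing R] [CommRing B] [IsLocalRing B]
    (α : R[X] →+* B) (hα : (maximalIdeal B).comap α = (maximalIdeal R).map C)
    (g : B[X]) (hg : ∀ k, (α.comp C).IsIntegralElem (g.coeff k)) (k₀ : ℕ) (hk₀ : IsUnit (g.coeff k₀)) :
    IsUnit (g.eval (α X)) := by
  have hloc : IsLocalHom (α.comp C) := by
    refine ((local_hom_TFAE (α.comp C)).out 0 4).mpr ?_
    rw [← Ideal.comap_comap, hα]
    ext r
    rw [Ideal.mem_comap, Ideal.mem_map_C_iff]
    constructor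
    · intro h
      simpa using h 0
    · intro h n
      rw [coeff_C]
      split_ifs
      · exact h
      · exact zero_mem _
  let κ := ResidueField R
  let κ₁ := ResidueField B
  let i1 : Algebra κ κ₁ := (ResidueField.map (α.comp C)).toAlgebra
  have hi1 : ∀ r : R, algebraMap κ κ₁ (residue R r) = residue B (α (C r)) := fun r =>
    ResidueField.map_residue (α.comp C) r
  by_contra hu
  have h0 : residue B (g.eval (α X)) = 0 := (residue_eq_zero_iff _).mpr hu
  -- coefficients are algebraic
  let F := algebraicClosure κ κ₁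
  have hF : Algebra.IsAlgebraic κ F := inferInstance
  have hc : ∀ k, residue B (g.coeff k) ∈ F := by
    intro k
    rw [mem_algebraicClosure_iff', ]
    obtain ⟨p, hp, hp0⟩ := hg k
    refine ⟨p.map (residue R), hp.map _, ?_⟩
    rw [eval₂_map]
    have h1 : (algebraMap κ κ₁).comp (residue R) = (residue B).comp (α.comp C) := by
      ext r
      exact hi1 r
    rw [h1, ← hom_eval₂, hp0, map_zero]
  let G : F[X] := ∑ k ∈ g.support, C (⟨residue B (g.coeff k), hc k⟩ : F) * X ^ k
  have hG : G.map (algebraMap F κ₁) = g.map (residue B) := by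
    rw [Polynomial.map_sum]
    conv_rhs => rw [g.as_sum_support_C_mul_X_pow, Polynomial.map_sum]
    refine Finset.sum_congr rfl fun k _ => ?_
    simp only [Polynomial.map_mul, Polynomial.map_pow, map_C, map_X]
    rfl
  have hG0 : G ≠ 0 := by
    intro h
    rw [h, Polynomial.map_zero] at hG
    have := congrArg (fun q => q.coeff k₀) hG
    simp only [coeff_zero, coeff_map] at this
    exact (hk₀.map (residue B)).ne_zero this.symm
  have hroot : IsAlgebraic F (residue B (α X)) := by
    refine ⟨G, hG0, ?_⟩
    rw [aeval_def, ← eval_map, hG, eval_map, eval₂_at_apply]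
    exact h0
  have halg : IsAlgebraic κ (residue B (α X)) := hroot.restrictScalars κ
  obtain ⟨p, hp0, hp⟩ := halg
  obtain ⟨q, rfl⟩ := Polynomial.map_surjective (residue R) residue_surjective p
  have h3 : α q ∈ maximalIdeal B := by
    rw [← residue_eq_zero_iff]
    rw [aeval_def, eval₂_map] at hp
    have h1 : (algebraMap κ κ₁).comp (residue R) = (residue B).comp (α.comp C) := by
      ext r
      exact hi1 r
    rw [h1, ← hom_eval₂] at hp
    have h4 : eval₂ (α.comp C) (α X) q = α q := by
      have h5 : eval₂RingHom (α.comp C) (α X) = α := by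
        apply Polynomial.ringHom_ext
        · intro a
          simp
        · simp
      exact DFunLike.congr_fun h5 q
    rwa [h4] at hp
  have h4 : q ∈ (maximalIdeal R).map C := by
    rw [← hα]
    exact h3
  rw [Ideal.mem_map_C_iff] at h4
  apply hp0
  ext k
  rw [coeff_map, coeff_zero, residue_eq_zero_iff]
  exact h4 k

theorem isSeparable_of_isIndEtale {A S k F : Type u} [CommRing A] [CommRing S] [Field k] [Field F]
    [Algebra A S] (h : EtPBC.IsIndEtale A S) [Algebra k F] (a : A →+* k) (χ : S →+* F)
    (hχ : χ.comp (algebraMap A S) = (algebraMap k F).comp a) (s : S) : IsSeparable k (χ s) := by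
  let i1 : Algebra A k := a.toAlgebra
  let i2 : Algebra A F := ((algebraMap k F).comp a).toAlgebra
  have i3 : IsScalarTower A k F := IsScalarTower.of_algebraMap_eq fun _ => rfl
  have h1 := Groth.Agent.Proet.IndEtale.isIndEtale_baseChange A S k h
  have h2 := Groth.Agent.Etalg.IndEt.sepElt_eq_top_of_isIndEtale h1
  let χ' : S →ₐ[A] F := { χ with commutes' := fun r => DFunLike.congr_fun hχ r }
  let f : k ⊗[A] S →ₐ[k] F := Algebra.TensorProduct.lift (Algebra.ofId k F) χ' (fun _ _ => Commute.all _ _)
  have h3 : (1 : k) ⊗ₜ[A] s ∈ Groth.Agent.Etalg.SepElt.sepElt k (k ⊗[A] S) := by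
    rw [h2]
    exact Algebra.mem_top
  have h4 := Groth.Agent.Etalg.SepElt.map_mem_sepElt f h3
  have h5 : f ((1 : k) ⊗ₜ[A] s) = χ s := by
    simp [f]
    rfl
  rw [h5] at h4
  exact Groth.Agent.Etalg.SepElt.isSeparable_of_mem_sepElt h4

theorem mem_range_of_isSeparable {k F : Type u} [Field k] [Field F] [Algebra k F] [IsSepClosed k] (y : F)
    (hy : IsSeparable k y) : y ∈ Set.range (algebraMap k F) := by
  have h1 : IsIntegral k y := hy.isIntegral
  have h2 := IsSepClosed.degree_eq_one_of_irreducible k (minpoly.irreducible h1) hy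
  exact minpoly.degree_eq_one_iff.mp h2

theorem exists_extension {A S Ω : Type u} [CommRing A] [CommRing S] [IsLocalRing S] [Field Ω] [IsSepClosed Ω]
    [Algebra A S] (h : EtPBC.IsIndEtale A S) (f : A →+* Ω)
    (hf : RingHom.ker f = (maximalIdeal S).comap (algebraMap A S)) :
    ∃ w : S →+* Ω, w.comp (algebraMap A S) = f ∧ RingHom.ker w = maximalIdeal S := by
  let p : Ideal A := RingHom.ker f
  have hp : p.IsPrime := RingHom.ker_isPrime f
  let a : A →+* ResidueField S := (residue S).comp (algebraMap A S)
  have ha : p = RingHom.ker a := by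
    rw [← RingHom.comap_ker, ker_residue]
    exact hf
  have hlift : ∀ {F : Type u} [Field F] (b : A →+* F), p = RingHom.ker b →
      ∃ c : p.ResidueField →+* F, c.comp (algebraMap A p.ResidueField) = b := by
    intro F _ b hb
    have h2 : p.primeCompl ≤ (IsUnit.submonoid F).comap b := by
      intro x hx
      rw [Submonoid.mem_comap, IsUnit.mem_submonoid_iff, isUnit_iff_ne_zero]
      intro h0
      apply hx
      rw [hb]
      exact h0
    refine ⟨Ideal.ResidueField.lift p b hb.le h2, ?_⟩
    ext x
    exact Ideal.ResidueField.lift_algebraMap p b hb.le h2 x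
  obtain ⟨c₁, hc₁⟩ := hlift a ha
  obtain ⟨c₂, hc₂⟩ := hlift f rfl
  let j1 : Algebra p.ResidueField (ResidueField S) := c₁.toAlgebra
  let j2 : Algebra p.ResidueField Ω := c₂.toAlgebra
  have hsep : Algebra.IsSeparable p.ResidueField (ResidueField S) := by
    refine ⟨fun y => ?_⟩
    obtain ⟨s, rfl⟩ := residue_surjective y
    exact isSeparable_of_isIndEtale h (algebraMap A p.ResidueField) (residue S) hc₁.symm s
  let e : ResidueField S →ₐ[p.ResidueField] Ω := IsSepClosed.lift
  refine ⟨e.toRingHom.comp (residue S), ?_, ?_⟩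
  · rw [← hc₂, RingHom.comp_assoc]
    change e.toRingHom.comp a = _
    rw [← hc₁, ← RingHom.comp_assoc]
    congr 1
    exact e.comp_algebraMap
  · rw [← RingHom.comap_ker, (RingHom.injective_iff_ker_eq_bot _).mp e.toRingHom.injective]
    exact ker_residue

end K679.GoodAlg
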