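import Groth.Agent.Hensel.LocalSplit
import Mathlib.RingTheory.Ideal.KrullsHeightTheorem
import Mathlib.RingTheory.ZariskisMainTheorem

/-!
# Quasi-sections over henselian discrete valuation rings

`exists_prime`: a domain of finite type over a henselian discrete valuation ring, with non-empty special
fibre, has a quotient domain which is finite and torsion free over the base.
-/

set_option autoImplicit false

universe u

namespace K679.QuasiSec

open IsLocalRing

/-- In a noetherian domain, if a nonzero `π` lies in all nonzero primes below the maximal ideal `x`,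
then `x` is minimal over `π`. -/
theorem eq_of_mem {D : Type u} [CommRing D] [IsDomain D] [IsNoetherianRing D] (x : Ideal D)
    [hx : x.IsMaximal] (π : D) (hπx : π ∈ x)
    (h : ∀ q : Ideal D, q.IsPrime → q ≠ ⊥ → q ≤ x → π ∈ q) (hπ : π ≠ 0)
    (q : Ideal D) [hq : q.IsPrime] (hqx : q ≤ x) (hπq : π ∈ q) : q = x := by
  by_contra hne
  have hspan : ∀ (a : D) (J : Ideal D), a ∈ J → Ideal.span {a} ≤ J := fun a J ha =>
    (Ideal.span_singleton_le_iff_mem _).mpr ha
  have hfin := Ideal.finite_minimalPrimes_of_isNoetherianRing D (Ideal.span {π})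
  have h1 : ¬ ((x : Set D) ⊆ ⋃ p ∈ (Ideal.span {π}).minimalPrimes, (p : Set D)) := by
    intro hsub
    obtain ⟨p, hp, hxp⟩ := (Ideal.subset_union_prime_finite (I := x) hfin (f := fun p => p) ⊥ ⊥
      (fun p hp _ _ => hp.1.1)).mp hsub
    have : x = p := hx.eq_of_le hp.1.1.ne_top hxp
    subst this
    exact hne (le_antisymm hqx (hp.2 ⟨hq, hspan _ _ hπq⟩ hqx))
  rw [Set.not_subset] at h1
  obtain ⟨t, htx, ht⟩ := h1
  have ht' : ∀ p ∈ (Ideal.span {π}).minimalPrimes, t ∉ p := by
    intro p hp htp
    exact ht (Set.mem_biUnion hp htp)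
  have ht0 : t ≠ 0 := by
    rintro rfl
    obtain ⟨p, hp, -⟩ := Ideal.exists_minimalPrimes_le (hspan _ _ hπx)
    exact ht' p hp p.zero_mem
  obtain ⟨r, hr, hrx⟩ := Ideal.exists_minimalPrimes_le (hspan _ _ htx)
  have hrp : r.IsPrime := hr.1.1
  have htr : t ∈ r := hr.1.2 (Ideal.mem_span_singleton_self t)
  have hr0 : r ≠ ⊥ := by
    rintro rfl
    exact ht0 (by simpa using htr)
  have hπr := h r hrp hr0 hrx
  obtain ⟨p, hp, hpr⟩ := Ideal.exists_minimalPrimes_le (hspan _ _ hπr)
  have hpp := hp.1.1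
  have hpne : p ≠ r := by
    rintro rfl
    exact ht' p hp htr
  have hh := Ideal.height_le_one_of_isPrincipal_of_mem_minimalPrimes (Ideal.span {t}) r hr
  have hrf : r.FiniteHeight := ⟨Or.inr (ne_top_of_le_ne_top (by decide) hh)⟩
  have h2 : p.height < r.height := Ideal.height_strict_mono_of_isPrime_of_isPrime (lt_of_le_of_ne hpr hpne)
  have h3 : p.height = 0 := by
    have := lt_of_lt_of_le h2 hh
    exact Order.lt_one_iff.mp this
  rw [Ideal.height_eq_zero_iff_eq_bot] at h3
  have hπp : π ∈ p := hp.1.2 (Ideal.mem_span_singleton_self π)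
  rw [h3] at hπp
  exact hπ (by simpa using hπp)

theorem quasiFiniteAt {R : Type u} [CommRing R] [IsDomain R] [IsDiscreteValuationRing R] {D : Type u}
    [CommRing D] [IsDomain D] [Algebra R D] [Algebra.FiniteType R D] (π : R) (hπ : Irreducible π)
    (hπ0 : algebraMap R D π ≠ 0) (x : Ideal D) [hx : x.IsMaximal] (hπx : algebraMap R D π ∈ x)
    (h : ∀ q : Ideal D, q.IsPrime → q ≠ ⊥ → q ≤ x → algebraMap R D π ∈ q) :
    Algebra.QuasiFiniteAt R x := by
  have hN : IsNoetherianRing D := Algebra.FiniteType.isNoetherianRing R D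
  have hfin := Ideal.finite_minimalPrimes_of_isNoetherianRing D (Ideal.span {algebraMap R D π})
  let q : PrimeSpectrum D := ⟨x, inferInstance⟩
  refine Algebra.QuasiFiniteAt.of_isOpen_singleton_fiber (R := R) q ?_
  let S := (Ideal.span {algebraMap R D π}).minimalPrimes \ {x}
  have hS : S.Finite := hfin.subset Set.sdiff_subset
  let Z : Set (PrimeSpectrum D) := ⋃ p ∈ S, PrimeSpectrum.zeroLocus (p : Set D)
  have hZ : IsClosed Z := hS.isClosed_biUnion fun p _ => PrimeSpectrum.isClosed_zeroLocus _
  refine ⟨Zᶜ, hZ.isOpen_compl, ?_⟩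
  ext ⟨y, hy⟩
  simp only [Set.mem_preimage, Set.mem_compl_iff, Set.mem_singleton_iff, Subtype.mk.injEq]
  have hπy : algebraMap R D π ∈ y.asIdeal := by
    have h1 : π ∈ (PrimeSpectrum.comap (algebraMap R D) y).asIdeal := by
      rw [show PrimeSpectrum.comap (algebraMap R D) y = PrimeSpectrum.comap (algebraMap R D) q from hy]
      exact hπx
    exact h1
  constructor
  · intro hyZ
    obtain ⟨p, hp, hpy⟩ := Ideal.exists_minimalPrimes_le
      ((Ideal.span_singleton_le_iff_mem _).mpr hπy)
    have hpx : p = x := by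
      by_contra hne
      exact hyZ (Set.mem_biUnion (show p ∈ S from ⟨hp, hne⟩) hpy)
    subst hpx
    ext1
    exact (hx.eq_of_le y.isPrime.ne_top hpy).symm
  · rintro rfl
    intro hyZ
    simp only [Z, Set.mem_iUnion] at hyZ
    obtain ⟨p, ⟨hp, hpx⟩, hpy⟩ := hyZ
    have hpp := hp.1.1
    exact hpx (eq_of_mem x (algebraMap R D π) hπx h hπ0 p hpy (hp.1.2 (Ideal.mem_span_singleton_self _)))

theorem finite_of {R : Type u} [CommRing R] [IsDomain R] [IsDiscreteValuationRing R]
    [HenselianLocalRing R] {D : Type u}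
    [CommRing D] [IsDomain D] [Algebra R D] [Algebra.FiniteType R D] (π : R) (hπ : Irreducible π)
    (hπ0 : algebraMap R D π ≠ 0) (x : Ideal D) [hx : x.IsMaximal] (hπx : algebraMap R D π ∈ x)
    (h : ∀ q : Ideal D, q.IsPrime → q ≠ ⊥ → q ≤ x → algebraMap R D π ∈ q) :
    Module.Finite R D := by
  have := quasiFiniteAt π hπ hπ0 x hπx h
  have hl : x.LiesOver (maximalIdeal R) := by
    refine ⟨?_⟩
    have h1 : (x.under R).IsPrime := inferInstance
    have h2 : π ∈ x.under R := hπx
    have h3 : maximalIdeal R ≤ x.under R := by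
      rw [hπ.maximalIdeal_eq]
      exact (Ideal.span_singleton_le_iff_mem _).mpr h2
    exact (maximalIdeal.isMaximal R).eq_of_le h1.ne_top h3
  obtain ⟨e, he, hex, hf, -⟩ :=
    Groth.Agent.Hensel.LocalSplit.exists_isIdempotentElem_of_quasiFiniteAt (R := R) x
  have he1 : e = 1 := by
    rcases IsIdempotentElem.iff_eq_zero_or_one.mp he with h0 | h1
    · exact absurd (h0 ▸ x.zero_mem) hex
    · exact h1
  subst he1
  have hbot : Ideal.span {(1 : D) - 1} = ⊥ := by simp
  rw [hbot] at hf
  exact Module.Finite.equiv (AlgEquiv.quotientBot R D).toLinearEquiv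

/-- Quasi-sections. -/
theorem exists_prime {R : Type u} [CommRing R] [IsDomain R] [IsDiscreteValuationRing R]
    [HenselianLocalRing R] {C : Type u}
    [CommRing C] [IsDomain C] [Algebra R C] [Algebra.FiniteType R C] (π : R) (hπ : Irreducible π)
    (hπ0 : algebraMap R C π ≠ 0) (hu : ¬ IsUnit (algebraMap R C π)) :
    ∃ P : Ideal C, P.IsPrime ∧ algebraMap R C π ∉ P ∧ Module.Finite R (C ⧸ P) := by
  have hN : IsNoetherianRing C := Algebra.FiniteType.isNoetherianRing R C
  obtain ⟨x, hx, hπx⟩ := exists_max_ideal_of_mem_nonunits hu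
  let S : Set (Ideal C) := {P | P.IsPrime ∧ algebraMap R C π ∉ P ∧ P ≤ x}
  have hS : S.Nonempty := ⟨⊥, Ideal.isPrime_bot, by simpa using hπ0, bot_le⟩
  obtain ⟨P, ⟨hP, hPπ, hPx⟩, hmax⟩ := set_has_maximal_iff_noetherian.mpr hN S hS
  refine ⟨P, hP, hPπ, ?_⟩
  have hm : (x.map (Ideal.Quotient.mk P)).IsMaximal := by
    refine Ideal.IsMaximal.map_of_surjective_of_ker_le Ideal.Quotient.mk_surjective ?_
    rwa [Ideal.mk_ker]
  have h0 : algebraMap R (C ⧸ P) π ≠ 0 := by
    rw [IsScalarTower.algebraMap_apply R C (C ⧸ P), Ideal.Quotient.algebraMap_eq, Ne,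
      Ideal.Quotient.eq_zero_iff_mem]
    exact hPπ
  refine finite_of π hπ h0 (x.map (Ideal.Quotient.mk P)) ?_ ?_
  · rw [IsScalarTower.algebraMap_apply R C (C ⧸ P)]
    exact Ideal.mem_map_of_mem _ hπx
  · intro q hq hq0 hqx
    by_contra hπq
    have h1 : q.comap (Ideal.Quotient.mk P) ∈ S := by
      refine ⟨Ideal.comap_isPrime _ _, ?_, ?_⟩
      · intro h
        apply hπq
        rw [IsScalarTower.algebraMap_apply R C (C ⧸ P)]
        exact h
      · refine (Ideal.comap_mono hqx).trans ?_
        rw [Ideal.comap_map_of_surjective _ Ideal.Quotient.mk_surjective]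
        refine sup_le le_rfl ?_
        rw [← RingHom.ker_eq_comap_bot, Ideal.mk_ker]
        exact hPx
    have h2 : P < q.comap (Ideal.Quotient.mk P) := by
      refine lt_of_le_of_ne ?_ ?_
      · intro a ha
        rw [Ideal.mem_comap, Ideal.Quotient.eq_zero_iff_mem.mpr ha]
        exact q.zero_mem
      · intro h
        apply hq0
        rw [eq_bot_iff]
        intro a ha
        obtain ⟨b, rfl⟩ := Ideal.Quotient.mk_surjective a
        have hb : b ∈ P := by
          rw [h]
          exact ha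
        exact Ideal.Quotient.eq_zero_iff_mem.mpr hb
    exact hmax _ h1 h2

/-- A finite piece of a domain `W` over a henselian discrete valuation ring maps to an algebraically
closed field, with image integral over `R`, compatibly with a given map on an integral extension `V`. -/
theorem finite_piece {R : Type u} [CommRing R] [IsDomain R] [IsDiscreteValuationRing R]
    [HenselianLocalRing R] (π : R) (hπ : Irreducible π) {V W P : Type u} [CommRing V] [IsDomain V]
    [Algebra R V] [Algebra.IsIntegral R V] [CommRing W] [IsDomain W] [Field P] [IsAlgClosed P]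
    (g : V →+* W) (ι : V →+* P) (hι : Function.Injective ι)
    (hg : Function.Injective (g.comp (algebraMap R V))) (hu : ¬ IsUnit (g (algebraMap R V π)))
    (a : Finset V) (s : Finset W) :
    ∃ (C : Subring W) (θ : C →+* P), (∀ x ∈ s, x ∈ C) ∧
      (∀ x ∈ a, ∃ hx : g x ∈ C, θ ⟨g x, hx⟩ = ι x) ∧
      ∀ c, (ι.comp (algebraMap R V)).IsIntegralElem (θ c) := by
  classical
  let iW : Algebra R W := (g.comp (algebraMap R V)).toAlgebra
  let gA : V →ₐ[R] W := { g with commutes' := fun r => rfl }
  let C := Algebra.adjoin R ((g '' (a : Set V)) ∪ (s : Set W))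
  let A₀ := Algebra.adjoin R (a : Set V)
  have hfg : Algebra.FiniteType R C :=
    Algebra.FiniteType.adjoin_of_finite ((a.finite_toSet.image g).union s.finite_toSet)
  have hAC : A₀.map gA ≤ C := by
    rw [AlgHom.map_adjoin]
    exact Algebra.adjoin_mono Set.subset_union_left
  let g₀ : A₀ →ₐ[R] C := (gA.comp A₀.val).codRestrict C (fun x => hAC ⟨x.1, x.2, rfl⟩)
  have hπC0 : algebraMap R C π ≠ 0 := by
    intro h
    have h1 : algebraMap R W π = 0 := congrArg Subtype.val h
    exact hπ.ne_zero (hg (h1.trans (map_zero _).symm))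
  have hπCu : ¬ IsUnit (algebraMap R C π) := by
    intro h
    exact hu (h.map C.val)
  obtain ⟨P₀, hP₀, hπP, hfin⟩ := exists_prime π hπ hπC0 hπCu
  let D := C ⧸ P₀
  let q : C →ₐ[R] D := Ideal.Quotient.mkₐ R P₀
  let h : A₀ →ₐ[R] D := q.comp g₀
  have hRD : ∀ r : R, algebraMap R D r = 0 → r = 0 := by
    intro r hr
    by_contra hne
    have h0 : algebraMap R C r ∈ P₀ := (Ideal.Quotient.eq_zero_iff_mem (I := P₀)).mp hr
    have h1 : r ∈ P₀.under R := h0
    have h2 : (P₀.under R).IsPrime := inferInstance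
    have h3 : P₀.under R ≠ ⊥ := by
      intro h0
      rw [h0, Ideal.mem_bot] at h1
      exact hne h1
    have h4 : (P₀.under R).IsMaximal := Ring.DimensionLEOne.maximalOfPrime h3 h2
    have h5 := IsLocalRing.eq_maximalIdeal h4
    have h6 : π ∈ P₀.under R := by
      rw [h5]
      exact (mem_maximalIdeal _).mpr hπ.not_isUnit
    exact hπP h6
  have hintA : Algebra.IsIntegral R A₀ := ⟨fun x => (isIntegral_algHom_iff A₀.val
    Subtype.val_injective).mp (Algebra.IsIntegral.isIntegral (x : V))⟩
  have hinj : Function.Injective h := by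
    have h1 : RingHom.ker h.toRingHom = ⊥ := by
      have := RingHom.ker_isPrime h.toRingHom
      refine Ideal.eq_bot_of_comap_eq_bot (R := R) ?_
      rw [eq_bot_iff]
      intro r hr
      have h2 : h (algebraMap R A₀ r) = 0 := hr
      rw [AlgHom.commutes] at h2
      rw [hRD r h2]
      exact Ideal.zero_mem _
    exact (RingHom.injective_iff_ker_eq_bot _).mpr h1
  let jD : Algebra A₀ D := h.toRingHom.toAlgebra
  let jP : Algebra A₀ P := (ι.comp (algebraMap A₀ V)).toAlgebra
  have hs : IsScalarTower R A₀ D := IsScalarTower.of_algebraMap_eq fun r => (h.commutes r).symm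
  have hint : Algebra.IsIntegral A₀ D := Algebra.IsIntegral.tower_top (R := R)
  have halg : Algebra.IsAlgebraic A₀ D := inferInstance
  have f1 : FaithfulSMul A₀ D := (faithfulSMul_iff_algebraMap_injective A₀ D).mpr hinj
  have f2 : FaithfulSMul A₀ P := (faithfulSMul_iff_algebraMap_injective A₀ P).mpr
    (hι.comp Subtype.val_injective)
  let l : D →ₐ[A₀] P := IsAlgClosed.lift
  refine ⟨C.toSubring, l.toRingHom.comp q.toRingHom, ?_, ?_, ?_⟩
  · intro x hx
    exact Algebra.subset_adjoin (Or.inr hx)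
  · intro x hx
    have hx1 : x ∈ A₀ := Algebra.subset_adjoin hx
    refine ⟨hAC ⟨x, hx1, rfl⟩, ?_⟩
    exact l.commutes ⟨x, hx1⟩
  · intro c
    obtain ⟨p, hp, hp0⟩ := Algebra.IsIntegral.isIntegral (R := R) (q c)
    refine ⟨p, hp, ?_⟩
    have h1 : ι.comp (algebraMap R V) = l.toRingHom.comp (algebraMap R D) := by
      ext r
      rw [IsScalarTower.algebraMap_eq R A₀ D]
      exact (l.commutes (algebraMap R A₀ r)).symm
    rw [h1]
    change Polynomial.eval₂ (l.toRingHom.comp (algebraMap R D)) (l.toRingHom (q c)) p = 0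
    rw [← Polynomial.hom_eval₂, hp0, map_zero]

end K679.QuasiSec
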