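import Mathlib.Order.Filter.Ultrafilter.Basic
import Mathlib.RingTheory.Henselian
import Mathlib.FieldTheory.IsSepClosed
import Mathlib.FieldTheory.Separable

/-!
# Ultraproducts of rings

`UP 𝒰 B`: the ultrapower of `B`. It is local / henselian / has separably closed residue field if `B` does.
`exists_ultra`: compactness, a family of ring maps on finitely generated pieces gives a map to an ultrapower.
-/

set_option autoImplicit false

universe u v w

namespace K679.Ultra

open Polynomial IsLocalRing Filter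

variable {I : Type w} (𝒰 : Ultrafilter I)

/-- The ideal of families that vanish almost everywhere. -/
def nullIdeal (B : Type v) [CommRing B] : Ideal (I → B) where
  carrier := {f | ∀ᶠ i in (𝒰 : Filter I), f i = 0}
  add_mem' := by
    intro a b ha hb
    filter_upwards [ha, hb] with i h1 h2
    simp [h1, h2]
  zero_mem' := Eventually.of_forall fun _ => rfl
  smul_mem' := by
    intro c a ha
    filter_upwards [ha] with i h
    simp [h]

/-- The ultrapower. -/
abbrev UP (B : Type v) [CommRing B] : Type (max w v) := (I → B) ⧸ nullIdeal 𝒰 B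

/-- The class of a family. -/
def mk {B : Type v} [CommRing B] : (I → B) →+* UP 𝒰 B := Ideal.Quotient.mk _

section basic

variable {B : Type v} [CommRing B]

theorem mk_surjective : Function.Surjective (mk 𝒰 (B := B)) := Ideal.Quotient.mk_surjective

theorem mk_eq_zero_iff (f : I → B) : mk 𝒰 f = 0 ↔ ∀ᶠ i in (𝒰 : Filter I), f i = 0 :=
  Ideal.Quotient.eq_zero_iff_mem

theorem mk_eq_iff (f g : I → B) : mk 𝒰 f = mk 𝒰 g ↔ ∀ᶠ i in (𝒰 : Filter I), f i = g i := by
  rw [← sub_eq_zero, ← map_sub, mk_eq_zero_iff]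
  simp only [Pi.sub_apply, sub_eq_zero]

theorem isUnit_mk_iff (f : I → B) : IsUnit (mk 𝒰 f) ↔ ∀ᶠ i in (𝒰 : Filter I), IsUnit (f i) := by
  constructor
  · intro h
    obtain ⟨b, hb⟩ := isUnit_iff_exists_inv.mp h
    obtain ⟨g, rfl⟩ := mk_surjective 𝒰 b
    rw [← map_mul, ← map_one (mk 𝒰), mk_eq_iff] at hb
    filter_upwards [hb] with i hi
    exact isUnit_iff_exists_inv.mpr ⟨g i, hi⟩
  · intro h
    classical
    let g : I → B := fun i => if hi : IsUnit (f i) then ↑(hi.unit⁻¹) else 0
    refine isUnit_iff_exists_inv.mpr ⟨mk 𝒰 g, ?_⟩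
    rw [← map_mul, ← map_one (mk 𝒰), mk_eq_iff]
    filter_upwards [h] with i hi
    simp only [Pi.mul_apply, Pi.one_apply, g, dif_pos hi]
    exact hi.mul_val_inv

instance [Nontrivial B] : Nontrivial (UP 𝒰 B) := by
  refine ⟨0, mk 𝒰 1, fun h => ?_⟩
  have h1 := (mk_eq_zero_iff 𝒰 (1 : I → B)).mp h.symm
  obtain ⟨i, hi⟩ := h1.exists
  exact one_ne_zero hi

/-- Constant families. -/
def const : B →+* UP 𝒰 B := (mk 𝒰).comp (Pi.constRingHom I B)

theorem const_apply (b : B) : const 𝒰 b = mk 𝒰 (fun _ => b) := rfl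

theorem const_injective : Function.Injective (const 𝒰 (B := B)) := by
  intro a b h
  rw [const_apply, const_apply, mk_eq_iff] at h
  obtain ⟨i, hi⟩ := h.exists
  exact hi

/-- Functoriality. -/
def map {C : Type v} [CommRing C] (g : B →+* C) : UP 𝒰 B →+* UP 𝒰 C :=
  Ideal.quotientMap (nullIdeal 𝒰 C) (g.compLeft I) (by
    intro f hf
    rw [Ideal.mem_comap]
    change ∀ᶠ i in (𝒰 : Filter I), g (f i) = 0
    filter_upwards [hf] with i hi
    rw [hi, map_zero])

theorem map_mk {C : Type v} [CommRing C] (g : B →+* C) (f : I → B) :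
    map 𝒰 g (mk 𝒰 f) = mk 𝒰 (fun i => g (f i)) := rfl

theorem map_const {C : Type v} [CommRing C] (g : B →+* C) (b : B) :
    map 𝒰 g (const 𝒰 b) = const 𝒰 (g b) := rfl

theorem map_injective {C : Type v} [CommRing C] (g : B →+* C) (hg : Function.Injective g) :
    Function.Injective (map 𝒰 g) := by
  rw [injective_iff_map_eq_zero]
  intro x hx
  obtain ⟨f, rfl⟩ := mk_surjective 𝒰 x
  rw [map_mk, mk_eq_zero_iff] at hx
  rw [mk_eq_zero_iff]
  filter_upwards [hx] with i hi
  exact (map_eq_zero_iff g hg).mp hi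

theorem isUnit_of_ne_zero {P : Type v} [Field P] (x : UP 𝒰 P) (hx : x ≠ 0) : IsUnit x := by
  obtain ⟨f, rfl⟩ := mk_surjective 𝒰 x
  rw [isUnit_mk_iff]
  rw [Ne, mk_eq_zero_iff, ← Ultrafilter.eventually_not] at hx
  filter_upwards [hx] with i hi
  exact isUnit_iff_ne_zero.mpr hi

end basic

section localRing

variable {B : Type v} [CommRing B] [IsLocalRing B]

instance : IsLocalRing (UP 𝒰 B) :=
  IsLocalRing.of_isUnit_or_isUnit_one_sub_self fun x => by
    obtain ⟨f, rfl⟩ := mk_surjective 𝒰 x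
    have h : ∀ᶠ i in (𝒰 : Filter I), IsUnit (f i) ∨ IsUnit (1 - f i) :=
      Eventually.of_forall fun i => IsLocalRing.isUnit_or_isUnit_one_sub_self (f i)
    rw [Ultrafilter.eventually_or] at h
    rcases h with h | h
    · exact Or.inl ((isUnit_mk_iff 𝒰 f).mpr h)
    · right
      have := (isUnit_mk_iff 𝒰 (1 - f)).mpr h
      rwa [map_sub, map_one] at this

theorem mk_mem_maximalIdeal_iff (f : I → B) :
    mk 𝒰 f ∈ maximalIdeal (UP 𝒰 B) ↔ ∀ᶠ i in (𝒰 : Filter I), f i ∈ maximalIdeal B := by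
  rw [mem_maximalIdeal, mem_nonunits_iff, isUnit_mk_iff, ← Ultrafilter.eventually_not]
  rfl

end localRing

section poly

variable {B : Type v} [CommRing B]

theorem eval_apply (F : (I → B)[X]) (α : I → B) (i : I) :
    (F.eval α) i = (F.map (Pi.evalRingHom _ i)).eval (α i) := by
  have := Polynomial.hom_eval₂ F (RingHom.id _) (Pi.evalRingHom (fun _ : I => B) i) α
  rw [Polynomial.eval_map]
  exact this

theorem eval_mk (F : (I → B)[X]) (α : I → B) :
    (F.map (mk 𝒰)).eval (mk 𝒰 α) = mk 𝒰 (F.eval α) := by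
  rw [Polynomial.eval_map, Polynomial.eval₂_at_apply]

theorem exists_monic {A : Type*} {C : Type*} [CommRing A] [CommRing C] (q : A →+* C) (hq : Function.Surjective q)
    (f : C[X]) (hf : f.Monic) : ∃ F : A[X], F.Monic ∧ F.map q = f ∧ F.natDegree = f.natDegree := by
  have h1 : f ∈ Polynomial.lifts q := by
    rw [Polynomial.mem_lifts]
    exact Polynomial.map_surjective q hq f
  obtain ⟨F, h2, h3, h4⟩ := Polynomial.lifts_and_natDegree_eq_and_monic h1 hf
  exact ⟨F, h4, h2, h3⟩

end poly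

instance henselian {B : Type v} [CommRing B] [HenselianLocalRing B] : HenselianLocalRing (UP 𝒰 B) where
  is_henselian := by
    intro f hf a₀ h1 h2
    obtain ⟨F, hF, rfl, -⟩ := exists_monic (mk 𝒰) (mk_surjective 𝒰) f hf
    obtain ⟨α, rfl⟩ := mk_surjective 𝒰 a₀
    rw [eval_mk, mk_mem_maximalIdeal_iff] at h1
    rw [Polynomial.derivative_map, eval_mk, isUnit_mk_iff] at h2
    have h3 : ∀ᶠ i in (𝒰 : Filter I), ∃ a : B, (F.map (Pi.evalRingHom _ i)).IsRoot a ∧
        a - α i ∈ maximalIdeal B := by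
      filter_upwards [h1, h2] with i h1 h2
      rw [eval_apply] at h1 h2
      refine HenselianLocalRing.is_henselian _ (hF.map _) (α i) h1 ?_
      rwa [Polynomial.derivative_map]
    classical
    let β : I → B := fun i => if h : ∃ a : B, (F.map (Pi.evalRingHom _ i)).IsRoot a ∧
        a - α i ∈ maximalIdeal B then h.choose else 0
    refine ⟨mk 𝒰 β, ?_, ?_⟩
    · rw [Polynomial.IsRoot.def, eval_mk, mk_eq_zero_iff]
      filter_upwards [h3] with i hi
      rw [eval_apply]
      simp only [β, dif_pos hi]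
      exact hi.choose_spec.1
    · rw [← map_sub, mk_mem_maximalIdeal_iff]
      filter_upwards [h3] with i hi
      simp only [Pi.sub_apply, β, dif_pos hi]
      exact hi.choose_spec.2

instance isSepClosed {B : Type v} [CommRing B] [IsLocalRing B] [IsSepClosed (ResidueField B)] :
    IsSepClosed (ResidueField (UP 𝒰 B)) := by
  refine IsSepClosed.of_exists_root _ fun p hp hirr hsep => ?_
  let φ : (I → B) →+* ResidueField (UP 𝒰 B) := (residue (UP 𝒰 B)).comp (mk 𝒰)
  have hφ : Function.Surjective φ := residue_surjective.comp (mk_surjective 𝒰)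
  have hφ0 : ∀ f, φ f = 0 ↔ ∀ᶠ i in (𝒰 : Filter I), f i ∈ maximalIdeal B := by
    intro f
    rw [← mk_mem_maximalIdeal_iff]
    exact residue_eq_zero_iff _
  obtain ⟨F, hF, rfl, hd⟩ := exists_monic φ hφ p hp
  obtain ⟨a, b, hab⟩ := hsep
  obtain ⟨A, rfl⟩ := Polynomial.map_surjective φ hφ a
  obtain ⟨C, rfl⟩ := Polynomial.map_surjective φ hφ b
  let N : (I → B)[X] := A * F + C * derivative F - 1
  have hN : N.map φ = 0 := by
    simp only [N, Polynomial.map_sub, Polynomial.map_add, Polynomial.map_mul, Polynomial.map_one,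
      ← Polynomial.derivative_map]
    rw [hab, sub_self]
  have hN2 : ∀ᶠ i in (𝒰 : Filter I), ∀ k ∈ N.support, N.coeff k i ∈ maximalIdeal B := by
    rw [Filter.eventually_all_finset]
    intro k _
    rw [← hφ0, ← Polynomial.coeff_map, hN, Polynomial.coeff_zero]
  have hdeg : F.natDegree ≠ 0 := by
    rw [hd]
    exact hirr.natDegree_pos.ne'
  have key : ∀ᶠ i in (𝒰 : Filter I), ∃ x : B,
      (F.map (Pi.evalRingHom _ i)).eval x ∈ maximalIdeal B := by
    filter_upwards [hN2] with i hi
    let q : (I → B) →+* ResidueField B := (residue B).comp (Pi.evalRingHom _ i)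
    have hNq : N.map q = 0 := by
      ext k
      rw [Polynomial.coeff_map, Polynomial.coeff_zero]
      by_cases hk : k ∈ N.support
      · exact (residue_eq_zero_iff _).mpr (hi k hk)
      · rw [Polynomial.notMem_support_iff.mp hk, map_zero]
    have hs : (F.map q).Separable := by
      refine ⟨A.map q, C.map q, ?_⟩
      simp only [N, Polynomial.map_sub, Polynomial.map_add, Polynomial.map_mul, Polynomial.map_one,
        ← Polynomial.derivative_map] at hNq
      exact sub_eq_zero.mp hNq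
    have hd2 : (F.map q).degree ≠ 0 := by
      rw [Polynomial.degree_eq_natDegree (hF.map q).ne_zero, hF.natDegree_map]
      exact_mod_cast hdeg
    obtain ⟨y, hy⟩ := IsSepClosed.exists_root (F.map q) hd2 hs
    obtain ⟨x, rfl⟩ := residue_surjective y
    refine ⟨x, ?_⟩
    rw [← residue_eq_zero_iff]
    rw [Polynomial.IsRoot.def, ← Polynomial.map_map, Polynomial.eval_map, Polynomial.eval₂_at_apply] at hy
    exact hy
  classical
  let α : I → B := fun i => if h : ∃ x : B, (F.map (Pi.evalRingHom _ i)).eval x ∈ maximalIdeal B then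
    h.choose else 0
  refine ⟨φ α, ?_⟩
  rw [Polynomial.eval_map, Polynomial.eval₂_at_apply, hφ0]
  filter_upwards [key] with i hi
  rw [eval_apply]
  simp only [α, dif_pos hi]
  exact hi.choose_spec

/-- Compactness. -/
theorem exists_ultra {A B P : Type u} [CommRing A] [CommRing B] [CommRing P] (φ : A →+* B) (ι : A →+* P)
    (good : Set P) (h0 : (0 : P) ∈ good)
    (h : ∀ (a : Finset A) (s : Finset B), ∃ (C : Subring B) (θ : C →+* P), (∀ x ∈ s, x ∈ C) ∧
      (∀ x ∈ a, ∃ hx : φ x ∈ C, θ ⟨φ x, hx⟩ = ι x) ∧ ∀ c, θ c ∈ good) :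
    ∃ (I : Type u) (𝒰 : Ultrafilter I) (Θ : B →+* UP 𝒰 P), (∀ x, Θ (φ x) = const 𝒰 (ι x)) ∧
      ∀ y, ∃ f : I → P, Θ y = mk 𝒰 f ∧ ∀ i, f i ∈ good := by
  classical
  choose C θ h1 h2 h3 using h
  let I := Finset A × Finset B
  let 𝒰 : Ultrafilter I := Ultrafilter.of atTop
  have h𝒰 : (𝒰 : Filter I) ≤ atTop := Ultrafilter.of_le _
  let f : B → I → P := fun y i => if hy : y ∈ C i.1 i.2 then θ i.1 i.2 ⟨y, hy⟩ else 0
  have hmem : ∀ y : B, ∀ᶠ i in (𝒰 : Filter I), y ∈ C i.1 i.2 := by
    intro y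
    apply h𝒰
    filter_upwards [eventually_ge_atTop ((∅, {y}) : I)] with i hi
    exact h1 i.1 i.2 y (hi.2 (Finset.mem_singleton_self y))
  have hf : ∀ (y : B) (i : I) (hy : y ∈ C i.1 i.2), f y i = θ i.1 i.2 ⟨y, hy⟩ :=
    fun y i hy => dif_pos hy
  refine ⟨I, 𝒰, { toFun := fun y => mk 𝒰 (f y), map_one' := ?_, map_mul' := ?_, map_zero' := ?_, map_add' := ?_ },
    ?_, ?_⟩
  · rw [← map_one (mk 𝒰), mk_eq_iff]
    refine Eventually.of_forall fun i => ?_
    rw [hf 1 i (one_mem _)]
    exact map_one _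
  · intro x y
    rw [← map_mul, mk_eq_iff]
    filter_upwards [hmem x, hmem y] with i hx hy
    rw [hf _ i (mul_mem hx hy), Pi.mul_apply, hf _ i hx, hf _ i hy, ← map_mul]
    rfl
  · rw [mk_eq_zero_iff]
    refine Eventually.of_forall fun i => ?_
    rw [hf 0 i (zero_mem _)]
    exact map_zero _
  · intro x y
    rw [← map_add, mk_eq_iff]
    filter_upwards [hmem x, hmem y] with i hx hy
    rw [hf _ i (add_mem hx hy), Pi.add_apply, hf _ i hx, hf _ i hy, ← map_add]
    rfl
  · intro x
    change mk 𝒰 (f (φ x)) = mk 𝒰 _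
    rw [mk_eq_iff]
    apply h𝒰
    filter_upwards [eventually_ge_atTop (({x}, ∅) : I)] with i hi
    obtain ⟨hx, hx2⟩ := h2 i.1 i.2 x (hi.1 (Finset.mem_singleton_self x))
    rw [hf _ i hx, hx2]
    rfl
  · intro y
    refine ⟨f y, rfl, fun i => ?_⟩
    by_cases hy : y ∈ C i.1 i.2
    · rw [hf _ i hy]
      exact h3 _ _ _
    · simp only [f, dif_neg hy]
      exact h0

end K679.Ultra
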