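import Groth.Agent.SGA4h.K3.TraitMap
import Groth.Agent.SGA4h.K679.Ultra
import Groth.Agent.SGA4h.K679.QuasiSec
import Groth.Agent.SGA4h.K679.GoodAlg

/-!
# The class of good morphisms of traits: separably closed base, and separable closedness
-/

set_option autoImplicit false

universe u

noncomputable section

namespace K679.GoodMap

open Groth.Agent.Sga4h.NcTD K3.TraitMap K679.Ultra K679.GoodAlg IsLocalRing Polynomial

variable {n : ℕ}

/-- Good morphisms of traits: `L'` maps to an ultrapower of the perfect closure of `L`, over `L`, the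
elements of `R'` going to families of elements integral over `R`. -/
def Good {T T' : TD.{u} n} (φ : TMap T T') : Prop :=
  ∃ (I : Type u) (𝒰 : Ultrafilter I) (Θ : T'.L →+* UP 𝒰 (PC T.L)),
    (∀ x : T.L, Θ (φ.lam x) = const 𝒰 (algebraMap T.L (PC T.L) x)) ∧
    ∀ r : T'.R, ∃ f : I → PC T.L, Θ (algebraMap T'.R T'.L r) = mk 𝒰 f ∧
      ∀ i, ((algebraMap T.L (PC T.L)).comp (algebraMap T.R T.L)).IsIntegralElem (f i)

theorem sepIn_of_good {T T' : TD.{u} n} (φ : TMap T T') (h : Good φ) : SepIn φ := by
  obtain ⟨I, 𝒰, Θ, h1, -⟩ := h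
  let i1 : Algebra T.L T'.L := φ.lam.toAlgebra
  intro x hx
  let p := minpoly T.L x
  have hint : IsIntegral T.L x := hx.isIntegral
  have hp : Irreducible p := minpoly.irreducible hint
  obtain ⟨f, hf⟩ := mk_surjective 𝒰 (Θ x)
  have h3 : mk 𝒰 (fun i => aeval (f i) p) = 0 := by
    have h4 : Θ (aeval x p) = 0 := by rw [minpoly.aeval, map_zero]
    rw [aeval_def, hom_eval₂, ← hf] at h4
    have h5 : Θ.comp (algebraMap T.L T'.L) = (mk 𝒰).comp
        ((Pi.constRingHom I (PC T.L)).comp (algebraMap T.L (PC T.L))) := by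
      ext y
      exact h1 y
    rw [h5, ← hom_eval₂] at h4
    rw [← h4]
    congr 1
    ext i
    have h6 := hom_eval₂ p ((Pi.constRingHom I (PC T.L)).comp (algebraMap T.L (PC T.L)))
      (Pi.evalRingHom _ i) f
    rw [Pi.evalRingHom_apply, Pi.evalRingHom_apply] at h6
    rw [h6]
    rfl
  rw [mk_eq_zero_iff] at h3
  obtain ⟨i, hi⟩ := h3.exists
  have h7 : IsSeparable T.L (f i) := by
    have h8 : minpoly T.L (f i) ∣ p := minpoly.dvd _ _ hi
    exact Polynomial.Separable.of_dvd hx h8
  obtain ⟨z, hz⟩ := IsPurelyInseparable.inseparable T.L (f i) h7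
  have h9 : p.IsRoot z := by
    rw [← hz, aeval_algebraMap_apply, map_eq_zero_iff _ (algebraMap T.L (PC T.L)).injective] at hi
    exact hi
  have h10 : p = X - C z := by
    have h11 : X - C z ∣ p := dvd_iff_isRoot.mpr h9
    refine (eq_of_monic_of_associated (monic_X_sub_C z) (minpoly.monic hint) ?_).symm
    exact (irreducible_X_sub_C z).associated_of_dvd hp h11
  have h12 : aeval x p = 0 := minpoly.aeval _ _
  rw [h10] at h12
  simp only [map_sub, aeval_X, aeval_C] at h12
  exact ⟨z, (sub_eq_zero.mp h12).symm⟩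

section base

variable {T T' : TD.{u} n} (φ : TMap T T')

theorem rho_injective : Function.Injective φ.ρ := by
  have h1 : Function.Injective ((algebraMap T'.R T'.K).comp φ.ρ) := by
    rw [← φ.h1]
    exact φ.κ.injective.comp (IsFractionRing.injective T.R T.K)
  exact Function.Injective.of_comp h1

theorem algebraMap_injective (T : TD.{u} n) : Function.Injective (algebraMap T.R T.L) := by
  rw [IsScalarTower.algebraMap_eq T.R T.K T.L]
  exact (algebraMap T.K T.L).injective.comp (IsFractionRing.injective T.R T.K)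

theorem lam_comp : φ.lam.comp (algebraMap T.R T.L) = (algebraMap T'.R T'.L).comp φ.ρ := by
  rw [IsScalarTower.algebraMap_eq T.R T.K T.L, ← RingHom.comp_assoc, φ.h2, RingHom.comp_assoc, φ.h1,
    ← RingHom.comp_assoc, ← IsScalarTower.algebraMap_eq]

theorem lam_apply (r : T.R) : φ.lam (algebraMap T.R T.L r) = algebraMap T'.R T'.L (φ.ρ r) :=
  DFunLike.congr_fun (lam_comp φ) r

instance isAlgebraic (T : TD.{u} n) : Algebra.IsAlgebraic T.R T.L := by
  have h1 : Algebra.IsAlgebraic T.K T.L := inferInstance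
  exact (IsFractionRing.comap_isAlgebraic_iff (A := T.R) (K := T.K) (C := T.L)).mpr h1

instance isFractionRing_ic (T : TD.{u} n) : IsFractionRing (integralClosure T.R T.L) T.L :=
  integralClosure.isFractionRing_of_algebraic
    (fun x hx => algebraMap_injective T (by rw [hx, map_zero]))

theorem isIntegral_lam (x : T.L) (hx : IsIntegral T.R x) : IsIntegral T'.R (φ.lam x) := by
  obtain ⟨p, hp, hp0⟩ := hx
  refine ⟨p.map φ.ρ, hp.map _, ?_⟩
  rw [eval₂_map, ← lam_comp, ← hom_eval₂, hp0, map_zero]

/-- The map between the integral closures. -/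
def icMap : integralClosure T.R T.L →+* integralClosure T'.R T'.L :=
  (φ.lam.comp (algebraMap (integralClosure T.R T.L) T.L)).codRestrict (integralClosure T'.R T'.L).toSubring
    (fun x => isIntegral_lam φ x.1 x.2)

theorem icMap_val (x : integralClosure T.R T.L) : ((icMap φ x : integralClosure T'.R T'.L) : T'.L) = φ.lam x :=
  rfl

theorem isDomain_UP {I : Type u} (𝒰 : Ultrafilter I) (P : Type u) [Field P] : IsDomain (UP 𝒰 P) := by
  have h : IsField (UP 𝒰 P) :=
    { exists_pair_ne := exists_pair_ne _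
      mul_comm := mul_comm
      mul_inv_cancel := fun hx => isUnit_iff_exists_inv.mp (isUnit_of_ne_zero 𝒰 _ hx) }
  exact h.isDomain

/-- The base case. -/
theorem good_of_isSepClosed (hL : IsSepClosed T.L) : Good φ := by
  obtain ⟨hhens, -⟩ := T.hR
  obtain ⟨π, hπ⟩ := IsDiscreteValuationRing.exists_irreducible T.R
  let V := integralClosure T.R T.L
  let W := integralClosure T'.R T'.L
  let g : V →+* W := icMap φ
  let ι : V →+* AlgebraicClosure T.L := algebraMap V (AlgebraicClosure T.L)
  have hι : Function.Injective ι := FaithfulSMul.algebraMap_injective _ _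
  have hg : Function.Injective (g.comp (algebraMap T.R V)) := by
    intro x y hxy
    have h1 : φ.lam (algebraMap T.R T.L x) = φ.lam (algebraMap T.R T.L y) := congrArg Subtype.val hxy
    exact algebraMap_injective T (φ.lam.injective h1)
  have hu : ¬ IsUnit (g (algebraMap T.R V π)) := by
    intro h
    have h1 : g (algebraMap T.R V π) = algebraMap T'.R W (φ.ρ π) := Subtype.ext (lam_apply φ π)
    rw [h1] at h
    have h2 : IsLocalHom (algebraMap T'.R W) :=
      (algebraMap_isIntegral_iff.mpr (inferInstance : Algebra.IsIntegral T'.R W)).isLocalHom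
        (fun x y hxy => algebraMap_injective T' (congrArg Subtype.val hxy))
    have h3 : IsUnit (φ.ρ π) := isUnit_of_map_unit _ _ h
    have := φ.h0
    exact hπ.not_isUnit (isUnit_of_map_unit φ.ρ _ h3)
  let good : Set (PC T.L) := {x | ((algebraMap T.L (PC T.L)).comp (algebraMap T.R T.L)).IsIntegralElem x}
  have hpiece : ∀ (a : Finset V) (s : Finset W), ∃ (C : Subring W) (θ : C →+* PC T.L), (∀ x ∈ s, x ∈ C) ∧
      (∀ x ∈ a, ∃ hx : g x ∈ C, θ ⟨g x, hx⟩ = algebraMap T.L (PC T.L) x) ∧ ∀ c, θ c ∈ good := by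
    intro a s
    obtain ⟨C, θ, h1, h2, h3⟩ := QuasiSec.finite_piece π hπ g ι hι hg hu a s
    refine ⟨C, θ.codRestrict (perfectClosure T.L (AlgebraicClosure T.L))
      (fun c => mem_perfectClosure_of_isSepClosed T.L _), h1, ?_, ?_⟩
    · intro x hx
      obtain ⟨hx1, hx2⟩ := h2 x hx
      exact ⟨hx1, Subtype.ext hx2⟩
    · intro c
      obtain ⟨p, hp, hp0⟩ := h3 c
      refine ⟨p, hp, ?_⟩
      apply Subtype.ext
      refine Eq.trans ?_ hp0
      exact hom_eval₂ p _ (algebraMap (PC T.L) (AlgebraicClosure T.L)) _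
  have hgood0 : (0 : PC T.L) ∈ good := RingHom.isIntegralElem_zero _
  obtain ⟨I, 𝒰, Θ, h1, h2⟩ := exists_ultra g
    ((algebraMap T.L (PC T.L)).comp (algebraMap V T.L)) good hgood0 hpiece
  have hdom := isDomain_UP 𝒰 (PC T.L)
  have hΘ0 : ∀ w : W, w ≠ 0 → IsUnit (Θ w) := by
    intro w hw
    apply isUnit_of_ne_zero
    intro h0
    have hk : (RingHom.ker Θ).IsPrime := RingHom.ker_isPrime Θ
    have hbot : RingHom.ker Θ = ⊥ := by
      refine Ideal.eq_bot_of_comap_eq_bot (R := T'.R) ?_
      by_contra hne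
      have hp : ((RingHom.ker Θ).comap (algebraMap T'.R W)).IsPrime := inferInstance
      have hm := IsLocalRing.eq_maximalIdeal (Ring.DimensionLEOne.maximalOfPrime hne hp)
      have h3 : φ.ρ π ∈ (RingHom.ker Θ).comap (algebraMap T'.R W) := by
        rw [hm, mem_maximalIdeal]
        intro h
        have := φ.h0
        exact hπ.not_isUnit (isUnit_of_map_unit φ.ρ _ h)
      have h4 : Θ (algebraMap T'.R W (φ.ρ π)) = 0 := h3
      have h5 : g (algebraMap T.R V π) = algebraMap T'.R W (φ.ρ π) := Subtype.ext (lam_apply φ π)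
      rw [← h5, h1] at h4
      have h6 := const_injective 𝒰 (h4.trans (map_zero _).symm)
      have h7 : algebraMap T.R T.L π = 0 := (algebraMap T.L (PC T.L)).injective (h6.trans (map_zero _).symm)
      exact hπ.ne_zero (algebraMap_injective T (h7.trans (map_zero _).symm))
    have : w ∈ RingHom.ker Θ := h0
    rw [hbot] at this
    exact hw (by simpa using this)
  let Θ' : T'.L →+* UP 𝒰 (PC T.L) := IsLocalization.lift (M := nonZeroDivisors W) (g := Θ)
    (fun y => hΘ0 _ (nonZeroDivisors.ne_zero y.2))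
  have hΘ' : ∀ w : W, Θ' (algebraMap W T'.L w) = Θ w := fun w => IsLocalization.lift_eq _ _
  refine ⟨I, 𝒰, Θ', ?_, ?_⟩
  · intro x
    have h3 : Θ'.comp φ.lam = (const 𝒰).comp (algebraMap T.L (PC T.L)) := by
      apply IsLocalization.ringHom_ext (nonZeroDivisors V)
      ext v
      change Θ' (algebraMap W T'.L (g v)) = _
      rw [hΘ', h1]
      rfl
    exact DFunLike.congr_fun h3 x
  · intro r
    obtain ⟨f, hf, hf2⟩ := h2 (algebraMap T'.R W r)
    refine ⟨f, ?_, hf2⟩
    rw [← hf, ← hΘ']
    rfl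

end base

end K679.GoodMap
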